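import Groth.Agent.Lib.AssTensor3.Main
import Groth.Agent.Lib.AssTensorS10.Fibre
import Groth.Agent.Lib.AssPts.Flat
import Groth.Agent.Lib.Euler.TensorSupport
import Groth.Agent.Lib.OX.Tensor
import Groth.Agent.Lib.OX.TensorInjective
import Groth.Agent.Lib.PushKR17.Twist
import Groth.Agent.Lib.GeomRed2.Basic
import Groth.Agent.Lib.CycDiv.Stalk

/-!
# Reduced modules: the structure sheaf and inverse images under flat morphisms
-/

set_option autoImplicit false
set_option linter.all false
set_option backward.isDefEq.respectTransparency false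

universe u

open CategoryTheory Limits AlgebraicGeometry IsLocalRing TensorProduct

noncomputable section

namespace GrothLib.RedMod7

variable {X : Scheme.{u}}

theorem isReducedMod_congr {M N : X.Modules} (e : M ≅ N) : AssSch.IsReducedMod M ↔ AssSch.IsReducedMod N := by
  unfold AssSch.IsReducedMod AssSch.NoEmbedded
  rw [AssPts.ass_congr e]
  simp only [AssPts.length_stalk_congr e]

/-- In a reduced local ring an associated maximal ideal forces a field. -/
theorem isField_of_isAssociatedPrime {R : Type u} [CommRing R] [IsLocalRing R] [IsReduced R]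
    (h : IsAssociatedPrime (maximalIdeal R) R) : IsField R := by
  obtain ⟨hp, a, ha⟩ := h
  rw [IsLocalRing.isField_iff_maximalIdeal_eq]
  have hmul : ∀ b ∈ maximalIdeal R, b * a = 0 := fun b hb => by
    rw [ha] at hb
    obtain ⟨n, hn⟩ := hb
    rw [Submodule.mem_colon_singleton, Submodule.mem_bot, smul_eq_mul] at hn
    exact IsNilpotent.eq_zero ⟨n + 1, by
      rw [show (b * a) ^ (n + 1) = (b ^ n * a) * (b * a ^ n) by ring, hn, zero_mul]⟩
  have hunit : IsUnit a := by
    by_contra hu
    have h0 : a = 0 := by
      have := hmul a ((mem_maximalIdeal a).2 hu)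
      exact IsNilpotent.eq_zero ⟨2, by rw [pow_two, this]⟩
    exact hp.ne_top (by rw [ha, h0]; simp)
  refine eq_bot_iff.2 fun b hb => Submodule.mem_bot (R := R) |>.2 ?_
  exact (IsUnit.mul_left_eq_zero hunit).1 (hmul b hb)

/-- The structure sheaf of a reduced scheme is a reduced module. -/
theorem isReducedMod_structure (Z : Scheme.{u}) [IsReduced Z] : AssSch.IsReducedMod (Coh.structureModule Z) := by
  have hf : ∀ z ∈ AssSch.Ass (Coh.structureModule Z), IsField (Z.presheaf.stalk z) := fun z hz =>
    isField_of_isAssociatedPrime ((AssPts.isAssPoint_structure_iff z).1 hz)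
  refine ⟨fun z hz z' _ hsp => ?_, fun z hz => ?_⟩
  · obtain ⟨q, hq⟩ := AssTensor3.exists_of_specializes hsp
    obtain ⟨q', hq'⟩ := AssTensor3.exists_of_specializes (specializes_rfl : z ⤳ z)
    letI := (hf z hz).toField
    exact hq'.symm.trans ((congrArg _ (Subsingleton.elim (α := PrimeSpectrum (Z.presheaf.stalk z)) q' q)).trans hq)
  · obtain ⟨e⟩ := AssPts.exists_stalk_unit_equiv z
    letI := (hf z hz).toField
    rw [← e.length_eq, Module.length_eq_one_iff]
    infer_instance

/-- A locally noetherian scheme with reduced structure module is reduced. -/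
theorem isReduced_of_isReducedMod (Z : Scheme.{u}) [IsLocallyNoetherian Z]
    (h : AssSch.IsReducedMod (Coh.structureModule Z)) : IsReduced Z := by
  haveI hO : (Coh.structureModule Z).IsQuasicoherent := (Euler.isCoh_of_isInvertible Euler.isInvertible_structure).1
  haveI : ∀ z : Z, _root_.IsReduced (Z.presheaf.stalk z) := fun z => by
    refine ⟨fun a ha => by_contra fun h0 => ?_⟩
    obtain ⟨p, hp, hle⟩ := exists_le_isAssociatedPrime_of_isNoetherianRing (Z.presheaf.stalk z) a h0
    let q : PrimeSpectrum (Z.presheaf.stalk z) := ⟨p, hp.1⟩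
    let y := Z.fromSpecStalk z q
    obtain ⟨e⟩ := AssPts.exists_stalk_unit_equiv z
    have hy : y ∈ AssSch.Ass (Coh.structureModule Z) :=
      (AssTensor3.fromSpecStalk_mem_ass_iff _ z q).2 (e.isAssociatedPrime_iff.1 hp)
    have hsp : y ⤳ z := AssTensor3.fromSpecStalk_specializes z q
    obtain ⟨ey⟩ := AssPts.exists_stalk_unit_equiv y
    have hs : IsSimpleModule (Z.presheaf.stalk y) (Z.presheaf.stalk y) :=
      Module.length_eq_one_iff.1 (ey.length_eq.trans (h.2 y hy))
    have hfld : IsField (Z.presheaf.stalk y) := by
      rw [IsLocalRing.isField_iff_maximalIdeal_eq]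
      exact (hs.toIsSimpleOrder.eq_bot_or_eq_top (maximalIdeal (Z.presheaf.stalk y))).resolve_right
        (maximalIdeal.isMaximal _).ne_top
    haveI := hp.1
    have hmap : Z.presheaf.stalkSpecializes hsp a = 0 := by
      letI := hfld.toField
      exact (ha.map (Z.presheaf.stalkSpecializes hsp).hom).eq_zero
    letI := (Z.presheaf.stalkSpecializes hsp).hom.toAlgebra
    have hp' : CycDiv.primeOf hsp = p := by
      have h1 : Z.fromSpecStalk z (PrimeSpectrum.comap (Z.presheaf.stalkSpecializes hsp).hom
          (closedPoint (Z.presheaf.stalk y))) = Z.fromSpecStalk z q := by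
        have := congrArg (fun φ => φ.base (closedPoint (Z.presheaf.stalk y))) (Scheme.SpecMap_stalkSpecializes_fromSpecStalk hsp)
        simp only [Scheme.Hom.comp_base, TopCat.comp_app] at this
        exact this.trans Scheme.fromSpecStalk_closedPoint
      ext b
      rw [CycDiv.mem_primeOf_iff]
      exact (congrArg (fun t : PrimeSpectrum (Z.presheaf.stalk z) => b ∈ t.asIdeal)
        ((Z.fromSpecStalk z).isEmbedding.injective h1)).to_iff
    haveI : IsLocalization p.primeCompl (Z.presheaf.stalk y) := by
      have := CycDiv.isLocalization_stalkSpecializes hsp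
      simp only [hp'] at this
      exact this
    obtain ⟨⟨s, hs'⟩, hsa⟩ := (IsLocalization.map_eq_zero_iff p.primeCompl (Z.presheaf.stalk y) a).1 hmap
    refine hs' (hle ?_)
    rw [Submodule.mem_colon_singleton, Submodule.mem_bot]
    exact hsa
  exact isReduced_of_isReduced_stalk Z

variable {P : Scheme.{u}}

/-- Inverse image under a flat morphism: reducedness is tested on the fibres over the associated points. -/
theorem isReducedMod_pullback_iff [IsLocallyNoetherian X] [IsLocallyNoetherian P] (π : P ⟶ X) [Flat π]
    {F : X.Modules} (hF : Coh.IsCoh F) :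
    AssSch.IsReducedMod ((Scheme.Modules.pullback π).obj F) ↔
      ∀ y ∈ AssSch.Ass F, y ∈ Set.range π →
        (∀ y' ∈ AssSch.Ass F, y' ⤳ y → y' = y) ∧
          Module.length (X.presheaf.stalk y) (F.presheaf.stalk y) = 1 ∧
          IsReduced (π.fiber y) := by
  have hO : Coh.IsCoh (Coh.structureModule P) := Euler.isCoh_of_isInvertible Euler.isInvertible_structure
  have e : AssTensor3.pullTensor π F (Coh.structureModule P) ≅ (Scheme.Modules.pullback π).obj F :=
    (((OX.tensorBraiding (X := P)).app (Coh.structureModule P)) ≪≫ OX.tensorUnitNatIso).app ((Scheme.Modules.pullback π).obj F)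
  have hsupp : CohB1.support (Coh.structureModule P) = Set.univ := by
    refine Set.eq_univ_of_forall fun x hs => ?_
    obtain ⟨ex⟩ := AssPts.exists_stalk_unit_equiv x
    haveI : Subsingleton ((Coh.structureModule P).presheaf.stalk x) := hs
    haveI := ex.toEquiv.subsingleton
    exact zero_ne_one (α := P.presheaf.stalk x) (Subsingleton.elim _ _)
  have hfib : ∀ y, AssSch.IsReducedMod ((Scheme.Modules.pullback (π.fiberι y)).obj (Coh.structureModule P)) ↔
      IsReduced (π.fiber y) := fun y => by
    rw [isReducedMod_congr (OX.pullUnitIso (π.fiberι y))]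
    haveI := AssTensorS10.isLocallyNoetherian_fiber π y
    exact ⟨isReduced_of_isReducedMod _, fun h => haveI := h; isReducedMod_structure _⟩
  rw [← isReducedMod_congr e, AssTensor3.isReducedMod_iff hF hO (fun x => AssPts.isFlatOverAt_structure π x), hsupp,
    Set.image_univ]
  simp only [hfib, Set.mem_inter_iff, and_imp]

end GrothLib.RedMod7
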