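import Groth.Agent.Lib.RedMod7.Basic
import Mathlib.AlgebraicGeometry.Pullbacks

/-!
# Geometrically reduced modules over a field
-/

set_option autoImplicit false
set_option linter.all false
set_option backward.isDefEq.respectTransparency false

universe u

open CategoryTheory Limits AlgebraicGeometry TensorProduct

noncomputable section

namespace GrothLib.RedMod7

variable {k : Type u} [Field k] {X : Scheme.{u}}

/-- The residue field of a point of a `k`-scheme as a `k`-algebra. -/
@[instance_reducible] def resAlg (f : X ⟶ Spec (CommRingCat.of k)) (y : X) : Algebra k (X.residueField y) :=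
  (Spec.preimage (X.fromSpecResidueField y ≫ f)).hom.toAlgebra

theorem specMap_resAlg (f : X ⟶ Spec (CommRingCat.of k)) (y : X) :
    letI := resAlg f y
    Spec.map (CommRingCat.ofHom (algebraMap k (X.residueField y))) = X.fromSpecResidueField y ≫ f :=
  Spec.map_preimage _

theorem isReduced_tensor_comm (A B : Type u) [CommRing A] [CommRing B] [Algebra k A] [Algebra k B] :
    _root_.IsReduced (A ⊗[k] B) ↔ _root_.IsReduced (B ⊗[k] A) :=
  ⟨fun _ => isReduced_of_injective _ (Algebra.TensorProduct.comm k B A).injective,
    fun _ => isReduced_of_injective _ (Algebra.TensorProduct.comm k A B).injective⟩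

/-- The fibres of an extension of the base field. -/
theorem isReduced_fiber_iff {L : Type u} [Field L] [Algebra k L] {Z W : Scheme.{u}}
    {g : Z ⟶ Spec (CommRingCat.of k)} {h : W ⟶ Z} {h' : W ⟶ Spec (CommRingCat.of L)}
    (sq : IsPullback h h' g (Spec.map (CommRingCat.ofHom (algebraMap k L)))) (z : Z) :
    letI := resAlg g z
    IsReduced (h.fiber z) ↔ _root_.IsReduced (Z.residueField z ⊗[k] L) := by
  letI := resAlg g z
  have hsq : IsPullback (h.fiberToSpecResidueField z) (h.fiberι z ≫ h')
      (Spec.map (CommRingCat.ofHom (algebraMap k (Z.residueField z))))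
      (Spec.map (CommRingCat.ofHom (algebraMap k L))) := by
    rw [specMap_resAlg]
    exact (IsPullback.of_hasPullback h (Z.fromSpecResidueField z)).flip.paste_vert sq
  let e : h.fiber z ≅ Spec (CommRingCat.of (Z.residueField z ⊗[k] L)) :=
    hsq.isoPullback ≪≫ pullbackSpecIso k (Z.residueField z) L
  refine ⟨fun _ => ?_, fun _ => isReduced_of_isOpenImmersion e.hom⟩
  haveI := isReduced_of_isOpenImmersion e.inv
  exact affine_isReduced_iff _ |>.1 (isReduced_of_isOpenImmersion e.inv)

section geom

variable [IsLocallyNoetherian X] (f : X ⟶ Spec (CommRingCat.of k)) {F : X.Modules} (hF : Coh.IsCoh F)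

theorem surjective_bcπ (K : Type u) [Field K] [Algebra k K] : Surjective (FBase.bcπ f K) := by
  haveI : Surjective (Spec.map (CommRingCat.ofHom (algebraMap k K))) :=
    ⟨fun p => ⟨(default : PrimeSpectrum K), Subsingleton.elim (α := PrimeSpectrum k) _ _⟩⟩
  exact MorphismProperty.pullback_fst _ _ this

theorem flat_bcπ (K : Type u) [Field K] [Algebra k K] : Flat (FBase.bcπ f K) := by
  haveI : Flat (Spec.map (CommRingCat.ofHom (algebraMap k K))) :=
    Flat.SpecMap_iff.2 (RingHom.flat_algebraMap_iff.2 (inferInstance : Module.Flat k K))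
  exact MorphismProperty.pullback_fst _ _ this

include hF in
/-- Reducedness after an extension of the base field. -/
theorem isReducedMod_bc_iff (K : Type u) [Field K] [Algebra k K] [IsLocallyNoetherian (FBase.bc f K)] :
    AssSch.IsReducedMod ((Scheme.Modules.pullback (FBase.bcπ f K)).obj F) ↔
      ∀ y ∈ AssSch.Ass F,
        (∀ y' ∈ AssSch.Ass F, y' ⤳ y → y' = y) ∧
          Module.length (X.presheaf.stalk y) (F.presheaf.stalk y) = 1 ∧
          (letI := resAlg f y; _root_.IsReduced (X.residueField y ⊗[k] K)) := by
  haveI := flat_bcπ f K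
  haveI := surjective_bcπ f K
  rw [isReducedMod_pullback_iff (FBase.bcπ f K) hF]
  refine forall₂_congr fun y _ => ?_
  rw [Set.range_eq_univ.2 (FBase.bcπ f K).surjective, isReduced_fiber_iff (g := f) (h := FBase.bcπ f K) (h' := FBase.bcStr f K) (IsPullback.of_hasPullback _ _) y]
  simp only [Set.mem_univ, forall_const]

include hF in
/-- Reduced after all finite purely inseparable extensions: the residue fields are geometrically reduced. -/
theorem data_of_geomReduced
    (hFgr : ∀ (k' : Type u) [Field k'] [Algebra k k'] [FiniteDimensional k k'] [IsPurelyInseparable k k'],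
      AssSch.IsReducedMod ((Scheme.Modules.pullback (FBase.bcπ f k')).obj F)) :
    ∀ y ∈ AssSch.Ass F,
      (∀ y' ∈ AssSch.Ass F, y' ⤳ y → y' = y) ∧
        Module.length (X.presheaf.stalk y) (F.presheaf.stalk y) = 1 ∧
        (letI := resAlg f y; ∀ (L : Type u) [Field L] [Algebra k L],
          _root_.IsReduced (X.residueField y ⊗[k] L)) := by
  intro y hy
  letI := resAlg f y
  have key : ∀ (k' : Type u) [Field k'] [Algebra k k'] [FiniteDimensional k k'] [IsPurelyInseparable k k'],
      (∀ y' ∈ AssSch.Ass F, y' ⤳ y → y' = y) ∧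
          Module.length (X.presheaf.stalk y) (F.presheaf.stalk y) = 1 ∧
          _root_.IsReduced (X.residueField y ⊗[k] k') := by
    intro k' _ _ _ _
    haveI : LocallyOfFiniteType (Spec.map (CommRingCat.ofHom (algebraMap k k'))) :=
      (HasRingHomProperty.Spec_iff (P := @LocallyOfFiniteType)).2
        (RingHom.finiteType_algebraMap.2 inferInstance)
    haveI : LocallyOfFiniteType (FBase.bcπ f k') := MorphismProperty.pullback_fst _ _ inferInstance
    haveI : IsLocallyNoetherian (FBase.bc f k') := LocallyOfFiniteType.isLocallyNoetherian (FBase.bcπ f k')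
    exact (isReducedMod_bc_iff f hF k').1 (hFgr k') y hy
  haveI : Algebra.IsGeometricallyReduced k (X.residueField y) :=
    GrothLib.GeomRed2.isGeometricallyReduced_of_forall_purelyInseparable fun k' _ _ _ _ =>
      (isReduced_tensor_comm _ _).1 (key k').2.2
  refine ⟨(key k).1, (key k).2.1, fun L _ _ => ?_⟩
  exact (isReduced_tensor_comm _ _).1 GrothLib.GrpSchField.isReduced_tensorProduct

end geom

end GrothLib.RedMod7
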