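import Groth.Agent.Lib.RedMod7.Field
import Groth.Agent.Lib.FBase7.Embeds

/-!
# Integral modules and extension of the base field
-/

set_option autoImplicit false
set_option linter.all false
set_option backward.isDefEq.respectTransparency false

universe u

open CategoryTheory Limits AlgebraicGeometry TensorProduct IsLocalRing

noncomputable section

namespace GrothLib.RedMod7

variable {X P : Scheme.{u}}

/-- A module is integral when it has a single associated point, of length one. -/
def IsIntMod (M : X.Modules) : Prop :=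
  ∃ x : X, AssSch.Ass M = {x} ∧ Module.length (X.presheaf.stalk x) (M.presheaf.stalk x) = 1

theorem isReducedMod_of_isIntMod {M : X.Modules} (h : IsIntMod M) : AssSch.IsReducedMod M := by
  obtain ⟨x, hx, hl⟩ := h
  unfold AssSch.IsReducedMod AssSch.NoEmbedded
  rw [hx]
  refine ⟨?_, ?_⟩
  · rintro a ha b hb -
    exact (Set.mem_singleton_iff.1 ha).trans (Set.mem_singleton_iff.1 hb).symm
  · rintro a ha
    obtain rfl := Set.mem_singleton_iff.1 ha
    exact hl

theorem exists_ass_structure_specializes [IsLocallyNoetherian X] (w : X) :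
    ∃ v ∈ AssSch.Ass (Coh.structureModule X), v ⤳ w := by
  refine AssPts.exists_ass_specializes _ (Euler.isCoh_of_isInvertible Euler.isInvertible_structure) fun hs => ?_
  obtain ⟨e⟩ := AssPts.exists_stalk_unit_equiv w
  haveI : Subsingleton ((Coh.structureModule X).presheaf.stalk w) := hs
  haveI := e.toEquiv.subsingleton
  exact zero_ne_one (α := X.presheaf.stalk w) (Subsingleton.elim _ _)

/-- A reduced locally noetherian scheme has a single associated point iff it is irreducible. -/
theorem existsUnique_ass_iff [IsLocallyNoetherian X] [IsReduced X] :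
    (∃! v, v ∈ AssSch.Ass (Coh.structureModule X)) ↔ IrreducibleSpace X := by
  constructor
  · rintro ⟨v, hv, huniq⟩
    have hu : closure ({v} : Set X) = Set.univ := Set.eq_univ_of_forall fun w => by
      obtain ⟨a, ha, hsp⟩ := exists_ass_structure_specializes w
      exact (huniq a ha ▸ hsp).mem_closure
    haveI : PreirreducibleSpace X := ⟨by rw [← hu]; exact isIrreducible_singleton.closure.2⟩
    haveI : Nonempty X := ⟨v⟩
    exact ⟨inferInstance⟩
  · intro h
    obtain ⟨a, ha, hsp⟩ := exists_ass_structure_specializes (genericPoint X)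
    have hη : genericPoint X ∈ AssSch.Ass (Coh.structureModule X) := by
      rwa [(hsp.antisymm (genericPoint_specializes a)).eq] at ha
    exact ⟨genericPoint X, hη, fun b hb =>
      (isReducedMod_structure X).1 b hb _ hη (genericPoint_specializes b)⟩

/-- Integrality of an inverse image under a flat surjective morphism. -/
theorem isIntMod_pullback_iff [IsLocallyNoetherian X] [IsLocallyNoetherian P] (π : P ⟶ X) [Flat π] [Surjective π]
    {F : X.Modules} (hF : Coh.IsCoh F) :
    IsIntMod ((Scheme.Modules.pullback π).obj F) ↔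
      ∃ y : X, AssSch.Ass F = {y} ∧ Module.length (X.presheaf.stalk y) (F.presheaf.stalk y) = 1 ∧
        IsReduced (π.fiber y) ∧ IrreducibleSpace (π.fiber y) := by
  let O := Coh.structureModule P
  have hfl : FlatMod.IsFlatOver π O := fun x => AssPts.isFlatOverAt_structure π x
  let e : AssTensor3.pullTensor π F O ≅ (Scheme.Modules.pullback π).obj F :=
    (((OX.tensorBraiding (X := P)).app (Coh.structureModule P)) ≪≫ OX.tensorUnitNatIso).app ((Scheme.Modules.pullback π).obj F)
  have hfib : ∀ y ∈ AssSch.Ass F, ∀ w : π.fiber y,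
      w ∈ AssSch.Ass (Coh.structureModule (π.fiber y)) ↔
        π.fiberι y w ∈ AssSch.Ass ((Scheme.Modules.pullback π).obj F) := by
    intro y hy w
    rw [← AssPts.ass_congr (OX.pullUnitIso (π.fiberι y)), ← AssPts.ass_congr e]
    exact AssTensor3.ass_fiber_iff hfl hy w
  have hdown : ∀ x ∈ AssSch.Ass ((Scheme.Modules.pullback π).obj F), π x ∈ AssSch.Ass F := fun x hx => by
    rw [← AssPts.ass_congr e] at hx
    exact ((AssTensor3.ass_tensor_iff hfl x).1 hx).1
  constructor
  · intro h
    obtain ⟨x, hx, hl⟩ := h
    have hall := (isReducedMod_pullback_iff π hF).1 (isReducedMod_of_isIntMod ⟨x, hx, hl⟩)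
    have hy := hdown x (hx ▸ rfl)
    have key : ∀ y' ∈ AssSch.Ass F, π x = y' ∧ (∃! v, v ∈ AssSch.Ass (Coh.structureModule (π.fiber y'))) := by
      intro y' hy'
      haveI := AssTensorS10.isLocallyNoetherian_fiber π y'
      obtain ⟨p, rfl⟩ := π.surjective y'
      obtain ⟨w, -⟩ : p ∈ Set.range (π.fiberι (π p)) := (π.range_fiberι (π p)).symm ▸ rfl
      obtain ⟨v, hv, -⟩ := exists_ass_structure_specializes w
      have h1 : π.fiberι (π p) v = x := by
        simpa [hx] using (hfib _ hy' v).1 hv
      refine ⟨?_, v, hv, fun v' hv' => (π.fiberι (π p)).isEmbedding.injective ?_⟩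
      · rw [← h1]
        exact FibreFlat.fiberι_comp_apply π (π p) v
      · rw [h1]
        simpa [hx] using (hfib _ hy' v').1 hv'
    obtain ⟨-, hlen, hred⟩ := hall _ hy ⟨x, rfl⟩
    haveI := AssTensorS10.isLocallyNoetherian_fiber π (π x)
    exact ⟨π x, Set.eq_singleton_iff_unique_mem.2 ⟨hy, fun y' hy' => (key y' hy').1.symm⟩, hlen, hred,
      existsUnique_ass_iff.1 (key _ hy).2⟩
  · rintro ⟨y, hy, hl, hred, hirr⟩
    haveI := AssTensorS10.isLocallyNoetherian_fiber π y
    have hyy : y ∈ AssSch.Ass F := hy ▸ rfl
    have hR := (isReducedMod_pullback_iff π hF).2 fun y' hy' _ => by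
      obtain rfl : y' = y := by simpa [hy] using hy'
      exact ⟨fun y'' hy'' _ => by simpa [hy] using hy'', hl, hred⟩
    obtain ⟨v, hv, huniq⟩ := existsUnique_ass_iff.2 hirr
    refine ⟨π.fiberι y v, Set.eq_singleton_iff_unique_mem.2 ⟨(hfib y hyy v).1 hv, fun x hx => ?_⟩,
      hR.2 _ ((hfib y hyy v).1 hv)⟩
    have hxy : π x = y := by simpa [hy] using hdown x hx
    obtain ⟨w, rfl⟩ : x ∈ Set.range (π.fiberι y) := by
      rw [π.range_fiberι y]; exact hxy
    rw [huniq w ((hfib y hyy w).2 hx)]

section field

variable {k : Type u} [Field k]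

theorem fibre_square {L : Type u} [Field L] [Algebra k L] {Z W : Scheme.{u}}
    {g : Z ⟶ Spec (CommRingCat.of k)} {h : W ⟶ Z} {h' : W ⟶ Spec (CommRingCat.of L)}
    (sq : IsPullback h h' g (Spec.map (CommRingCat.ofHom (algebraMap k L)))) (z : Z) :
    letI := resAlg g z
    IsPullback (h.fiberToSpecResidueField z) (h.fiberι z ≫ h')
      (Spec.map (CommRingCat.ofHom (algebraMap k (Z.residueField z))))
      (Spec.map (CommRingCat.ofHom (algebraMap k L))) := by
  rw [specMap_resAlg]
  exact (IsPullback.of_hasPullback h (Z.fromSpecResidueField z)).flip.paste_vert sq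

/-- A field whose products with the finite extensions are domains is geometrically irreducible. -/
theorem geometricallyIrreducible_of_isDomain_tensor (κ : Type u) [Field κ] [Algebra k κ]
    (h : ∀ (k' : Type u) [Field k'] [Algebra k k'] [FiniteDimensional k k'], IsDomain (κ ⊗[k] k')) :
    GeometricallyIrreducible (Spec.map (CommRingCat.ofHom (algebraMap k κ))) := by
  refine FBase7.geometricallyIrreducible_specMap_of_sepClosedIn k κ (eq_bot_iff.2 fun a ha => ?_)
  have hint : IsIntegral k a := (mem_separableClosure_iff.1 ha).isIntegral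
  let L := IntermediateField.adjoin k ({a} : Set κ)
  haveI : FiniteDimensional k L := IntermediateField.adjoin.finiteDimensional hint
  haveI := h L
  let j := Algebra.TensorProduct.map L.val (AlgHom.id k L)
  have hj : Function.Injective j :=
    Module.Flat.rTensor_preserves_injective_linearMap (M := L) L.val.toLinearMap Subtype.val_injective
  haveI : IsDomain (L ⊗[k] L) := hj.isDomain j.toRingHom
  letI := (isField_of_isIntegral_of_isField' (R := k) (S := L ⊗[k] L) (Field.toIsField k)).toField
  let m : L ⊗[k] L →ₐ[k] L := Algebra.TensorProduct.lmul' k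
  have hmi : Function.Injective m := m.toRingHom.injective
  have hd := LinearMap.finrank_le_finrank_of_injective (f := m.toLinearMap) hmi
  rw [Module.finrank_tensorProduct] at hd
  have h1 : Module.finrank k L = 1 := by
    have hpos : 0 < Module.finrank k L := Module.finrank_pos
    nlinarith [mul_le_mul_of_nonneg_left (Nat.one_le_iff_ne_zero.2 hpos.ne') hpos.le]
  have : L = ⊥ := IntermediateField.finrank_eq_one_iff.1 h1
  exact this ▸ IntermediateField.subset_adjoin k _ (Set.mem_singleton a)

variable [IsLocallyNoetherian X] (f : X ⟶ Spec (CommRingCat.of k)) {F : X.Modules} (hF : Coh.IsCoh F)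

include hF in
/-- Integral after all finite extensions iff after all extensions. -/
theorem isIntMod_bc_of_finite
    (h : ∀ (k' : Type u) [Field k'] [Algebra k k'] [FiniteDimensional k k'],
        IsIntMod ((Scheme.Modules.pullback (FBase.bcπ f k')).obj F))
    (K : Type u) [Field K] [Algebra k K] [IsLocallyNoetherian (FBase.bc f K)] :
    IsIntMod ((Scheme.Modules.pullback (FBase.bcπ f K)).obj F) := by
  haveI := flat_bcπ f K
  haveI := surjective_bcπ f K
  have key : ∀ (k' : Type u) [Field k'] [Algebra k k'] [FiniteDimensional k k'], ∃ y : X,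
      AssSch.Ass F = {y} ∧ Module.length (X.presheaf.stalk y) (F.presheaf.stalk y) = 1 ∧
        IsReduced ((FBase.bcπ f k').fiber y) ∧ IrreducibleSpace ((FBase.bcπ f k').fiber y) := by
    intro k' _ _ _
    haveI : LocallyOfFiniteType (Spec.map (CommRingCat.ofHom (algebraMap k k'))) :=
      (HasRingHomProperty.Spec_iff (P := @LocallyOfFiniteType)).2
        (RingHom.finiteType_algebraMap.2 inferInstance)
    haveI : LocallyOfFiniteType (FBase.bcπ f k') := MorphismProperty.pullback_fst _ _ inferInstance
    haveI : IsLocallyNoetherian (FBase.bc f k') := LocallyOfFiniteType.isLocallyNoetherian (FBase.bcπ f k')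
    haveI := flat_bcπ f k'
    haveI := surjective_bcπ f k'
    exact (isIntMod_pullback_iff (FBase.bcπ f k') hF).1 (h k')
  obtain ⟨y, hy, hl, -⟩ := key k
  letI := resAlg f y
  have hdom : ∀ (k' : Type u) [Field k'] [Algebra k k'] [FiniteDimensional k k'],
      IsDomain (X.residueField y ⊗[k] k') := by
    intro k' _ _ _
    obtain ⟨y', hy', -, hr, hi⟩ := key k'
    obtain rfl : y' = y := by
      have : y' ∈ AssSch.Ass F := hy' ▸ rfl
      simpa [hy] using this
    have hsq := fibre_square (g := f) (h := FBase.bcπ f k') (h' := FBase.bcStr f k') (IsPullback.of_hasPullback _ _) y'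
    let e : (FBase.bcπ f k').fiber y' ≅ Spec (CommRingCat.of (X.residueField y' ⊗[k] k')) :=
      hsq.isoPullback ≪≫ pullbackSpecIso k (X.residueField y') k'
    haveI := isIntegral_of_irreducibleSpace_of_isReduced ((FBase.bcπ f k').fiber y')
    haveI : Nonempty (Spec (CommRingCat.of (X.residueField y' ⊗[k] k'))) := ⟨e.hom (genericPoint _)⟩
    exact (affine_isIntegral_iff _).1 (isIntegral_of_isOpenImmersion e.inv)
  haveI := geometricallyIrreducible_of_isDomain_tensor (X.residueField y) hdom
  have hredK := data_of_geomReduced f hF (fun k' _ _ _ _ => isReducedMod_of_isIntMod (h k')) y (hy ▸ rfl)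
  refine (isIntMod_pullback_iff (FBase.bcπ f K) hF).2 ⟨y, hy, hl,
    (isReduced_fiber_iff (g := f) (h := FBase.bcπ f K) (h' := FBase.bcStr f K) (IsPullback.of_hasPullback _ _) y).2
      (hredK.2.2 K), ?_⟩
  exact GeometricallyIrreducible.geometrically_irreducibleSpace _ _ _
    (fibre_square (g := f) (h := FBase.bcπ f K) (h' := FBase.bcStr f K) (IsPullback.of_hasPullback _ _) y)

end field

end GrothLib.RedMod7
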